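import Cfsg.Agent.Lib.M11U.NormalForm

/-!
# The orders of the elements of the concrete group `K` of order 7920

`K` is the set of products of four transversals; the numbers of elements of each order are computed
by the kernel.
-/

set_option autoImplicit false

namespace Cfsg.Agent.Lib.M11Rec.Table

open Cfsg.Agent.Lib.M11U.NFSearch Cfsg.Agent.Lib.M11U.NormalForm

/-- Transversals. -/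
def T0 : List P11 := (List.range 11).map (fun i => x ^ i)
/-- Transversals. -/
def T1 : List P11 := W1.map evalW
/-- Transversals. -/
def T2 : List P11 := W2.map evalW
/-- Transversals. -/
def T3 : List P11 := W3.map evalW

def TL0 : List (List ℕ) := [[0,1,2,3,4,5,6,7,8,9,10],
  [1,2,3,4,5,6,7,8,9,10,0],
  [2,3,4,5,6,7,8,9,10,0,1],
  [3,4,5,6,7,8,9,10,0,1,2],
  [4,5,6,7,8,9,10,0,1,2,3],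
  [5,6,7,8,9,10,0,1,2,3,4],
  [6,7,8,9,10,0,1,2,3,4,5],
  [7,8,9,10,0,1,2,3,4,5,6],
  [8,9,10,0,1,2,3,4,5,6,7],
  [9,10,0,1,2,3,4,5,6,7,8],
  [10,0,1,2,3,4,5,6,7,8,9]]

def TL1 : List (List ℕ) := [[0,1,2,3,4,5,6,7,8,9,10],
  [0,3,6,9,1,4,7,10,2,5,8],
  [0,9,7,5,3,1,10,8,6,4,2],
  [0,4,8,7,1,5,6,3,2,10,9],
  [0,5,10,4,9,3,8,2,7,1,6],
  [0,7,6,10,4,1,3,9,8,5,2],
  [0,10,7,8,1,3,9,5,2,4,6],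
  [0,6,8,3,5,1,4,7,9,10,2],
  [0,8,10,2,3,9,5,4,6,1,7],
  [0,2,8,6,9,5,4,1,7,3,10]]

def TL2 : List (List ℕ) := [[0,1,2,3,4,5,6,7,8,9,10],
  [0,1,4,10,9,2,6,3,7,5,8],
  [0,1,5,3,7,2,8,4,6,10,9],
  [0,1,7,2,4,8,9,10,6,5,3],
  [0,1,10,4,6,2,9,5,8,3,7],
  [0,1,9,2,3,6,8,5,7,4,10],
  [0,1,3,10,4,9,8,2,5,6,7],
  [0,1,8,2,10,7,6,4,9,3,5],
  [0,1,6,2,5,9,7,3,8,10,4]]

def TL3 : List (List ℕ) := [[0,1,2,3,4,5,6,7,8,9,10],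
  [0,1,2,4,5,10,8,6,9,7,3],
  [0,1,2,5,10,3,9,8,7,6,4],
  [0,1,2,10,3,4,7,9,6,8,5],
  [0,1,2,6,7,9,5,10,4,3,8],
  [0,1,2,9,8,6,3,4,10,5,7],
  [0,1,2,8,6,7,10,3,5,4,9],
  [0,1,2,7,9,8,4,5,3,10,6]]

set_option maxRecDepth 100000 in
/-- Orders. -/
def OO : List (List ℕ) := [
[1,4,2,4,4,4,4,4,4,2,4,3,4,4,4,4,2,4,3,4,4,4,4,4,4,4,4,4,4,4,2,3,4,3,4,2,4,4,4,4,4,4,4,4,2,3,4,4,4,4,4,4,4,4,3,2,4,4,4,4,4,4,3,2,4,4,4,4,3,2,4,4,5,2,5,5,4,4,8,8,5,4,5,3,4,8,8,4,5,4,4,5,4,8,8,8,8,8,4,8,5,4,5,4,2,5,5,5,4,4,8,8,8,8,8,8,4,2,3,3,4,8,8,4,5,3,5,3,4,4,4,4,4,4,3,2,4,4,8,8,5,3,5,3,5,4,4,5,8,8,8,4,2,5,5,5,8,8,4,4,3,5,4,5,4,8,8,4,8,4,8,8,4,5,4,5,4,2,4,3,4,4,4,4,4,8,8,4,5,3,3,5,4,4,8,8,5,3,3,5,8,8,8,8,3,3,4,2,8,4,8,4,5,5,2,5,2,5,5,5,8,8,4,4,4,5,3,5,4,8,4,8,4,4,5,5,8,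8,4,8,8,4,8,8,4,5,5,4,5,5,5,2,8,8,4,4,8,8,8,8,3,3,4,2,8,8,4,4,3,5,5,3,4,4,4,4,2,3,4,4,4,8,8,4,3,5,5,3,5,5,4,4,8,8,4,8,5,5,5,2,4,4,8,8,3,2,3,4,8,8,8,8,4,4,4,4,3,2,4,4,5,5,3,3,4,8,8,4,4,4,8,8,5,5,4,3,8,4,8,8,5,4,4,5,8,4,8,4,5,5,5,2,8,4,4,8,3,5,5,3,4,4,5,5,4,8,8,8,5,5,5,2,4,4,8,8,5,4,5,3,4,8,4,8,4,8,8,8,5,4,4,5,2,4,3,4,4,4,4,4,8,8,4,4,5,3,5,3,4,8,8,4,5,3,5,3,8,8,8,8,2,4,3,3,4,8,4,8,5,2,5,5,5,5,2,5,8,8,4,4,3,5,4,5,8,4,8,4,5,5,4,4,8,8,8,4,8,8,8,4,5,4,4,5,5,2,5,5,8,8,4,4,8,8,8,8,3,3,2,4,4,4,8,8,5,3,3,5,4,4,4,4,3,2,4,4,8,4,4,8,5,3,3,5,4,5,5,4,8,8,4,8,5,5,2,5,8,8,4,4,4,5,3,5,8,4,4,8,8,8,8,4,5,4,5,4,4,3,4,2,4,4,4,4,8,4,4,8,3,5,5,3,8,8,4,4,3,5,5,3,8,8,8,8,3,3,2,4,8,4,8,4,5,5,5,2,5,2,5,5,4,4,8,8,3,5,5,3,8,4,4,8,4,5,5,4,8,8,8,4,4,4,8,8,3,5,5,3,3,4,3,2,8,8,8,8,4,4,8,8,3,4,5,5,4,4,4,4,4,4,2,3,8,4,8,8,5,4,5,4,8,4,8,4,5,5,2,5,4,5,3,5,8,4,4,8,5,4,5,3,4,8,4,8,5,4,5,3,8,4,4,8,8,8,8,8,2,2,2,2,3,5,4,5,4,8,4,8,4,4,8,8,5,5,3,4,8,4,4,8,5,5,3,4,8,4,4,8,5,5,4,3,8,8,4,4,5,5,3,4],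
[11,5,8,4,5,6,8,11,5,8,4,11,8,11,6,5,5,11,4,8,8,11,5,6,5,11,4,8,11,8,6,5,6,6,3,3,6,3,6,3,4,11,5,8,8,11,6,5,11,5,8,4,6,5,11,8,5,8,6,11,8,11,4,5,8,5,11,4,5,6,11,8,5,5,5,8,6,6,5,8,5,8,5,4,4,3,8,4,3,5,11,11,8,11,8,5,4,5,5,6,8,11,8,11,8,11,6,6,8,11,4,8,11,6,8,11,8,6,4,8,5,5,6,11,4,6,11,5,6,3,11,5,11,6,4,6,5,11,11,8,5,8,3,11,5,5,8,5,5,8,6,6,5,6,11,4,5,11,5,6,5,4,5,8,3,4,4,8,8,11,11,6,6,8,8,4,11,11,3,5,11,8,5,8,11,5,6,3,6,11,6,4,4,8,8,11,6,11,6,8,11,8,5,11,8,5,11,3,5,6,4,5,11,8,11,8,8,5,11,11,3,11,8,5,8,4,4,3,8,4,5,5,5,6,8,6,5,8,5,5,6,6,4,11,5,3,11,6,11,8,8,5,11,3,5,11,8,11,11,8,4,5,6,5,6,4,8,8,8,11,6,11,11,4,5,6,5,11,5,6,6,6,8,11,8,11,4,8,5,5,4,6,8,11,11,8,11,11,8,6,6,8,4,8,11,8,8,4,6,8,6,11,5,8,5,5,6,6,5,8,8,8,11,5,3,11,5,11,5,8,5,4,4,3,4,8,8,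11,5,3,11,5,8,11,6,11,4,6,5,3,6,11,4,11,6,5,5,6,5,11,11,6,5,4,11,5,5,6,8,6,6,11,8,11,8,4,8,5,4,5,8,4,4,3,8,11,11,5,11,3,8,5,4,6,8,8,11,6,11,8,11,5,8,8,3,11,5,11,4,6,5,5,8,11,11,8,11,3,6,5,6,11,4,6,6,8,6,5,5,5,5,8,6,8,6,8,2,6,8,8,8,2,8,2,8,8,2,2,6,8,6,8,2,6,8,8,8,6,8,6,8,8,6,2,8,6,8,6,8,8,2,6,6,8,6,8,2,6,8,8,8,6,8,6,8,8,2,6,8,6,8,6,8,8,6,2,2,8,6,8,6,6,8,8,11,11,5,3,5,8,11,8,4,6,6,11,5,3,6,11,5,8,5,4,3,4,8,4,11,6,5,5,5,11,6,4,6,6,11,8,8,4,11,8,4,6,5,5,8,11,11,8,5,8,11,11,5,8,11,3,6,8,6,5,5,5,5,8,6,11,11,8,4,8,8,6,4,6,5,5,11,8,8,11,8,6,11,11,8,6,8,4,8,4,11,8,8,6,11,6,5,5,5,8,6,6,8,5,11,5,8,8,11,3,11,5,5,4,5,8,3,4,8,4,5,3,8,11,5,11,11,8,4,6,6,11,3,5,11,6,6,5,4,11,6,5,11,5,8,6,5,6,8,5,5,5,3,11,5,6,6,4,11,6,11,11,8,5,11,3,5,8,8,5,4,5,4,8,4,3,5,5,6,4,11,8,8,11,5,11,11,3,5,8,8,11,6,4,8,8,8,11,6,11,11,6,6,8,8,4,8,11,4,5,6,11,5,6,11,5],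
[11,5,8,8,5,11,11,3,8,8,11,4,11,6,8,6,5,5,8,5,6,6,5,8,8,8,6,4,6,11,11,8,5,8,6,11,4,5,11,8,8,6,8,2,6,6,8,8,6,5,5,11,5,11,6,4,6,6,11,4,3,5,11,6,11,11,8,5,5,8,3,11,5,8,5,5,5,8,6,6,6,5,4,11,11,5,5,6,11,11,6,8,8,6,4,8,11,4,8,5,11,8,6,5,8,8,11,5,11,5,3,11,5,11,11,8,11,3,5,8,8,2,8,6,6,6,8,8,6,11,4,6,11,6,5,3,11,6,6,8,11,8,8,4,5,6,4,5,11,8,8,11,8,11,11,8,5,4,6,5,11,11,8,8,6,5,4,5,8,11,11,8,4,5,5,6,4,6,5,5,11,8,11,8,11,11,8,8,4,5,6,5,5,5,6,4,8,11,8,11,5,5,6,4,8,11,8,11,3,3,6,6,3,6,6,3,6,5,6,8,8,5,5,5,6,8,8,4,11,6,11,8,5,11,11,3,8,11,8,5,8,4,11,8,11,6,6,8,2,8,6,8,8,8,6,6,8,5,11,6,11,8,4,5,11,4,5,6,6,5,5,11,3,8,11,5,5,11,11,8,6,3,11,5,6,4,11,6,5,11,6,8,5,4,11,8,6,8,6,8,8,8,6,2,5,8,5,5,5,8,6,6,6,11,8,6,4,8,8,11,6,11,4,5,5,11,5,6,11,11,5,8,11,3,8,5,6,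6,4,11,6,11,5,3,11,3,5,11,8,11,8,5,6,8,8,4,6,11,8,11,11,11,3,5,8,5,11,8,5,6,11,5,6,4,5,11,6,6,11,8,8,11,8,4,6,8,6,8,8,8,6,2,6,8,6,5,5,8,5,5,5,6,3,11,6,11,6,4,11,6,8,5,8,11,5,4,8,11,5,3,11,8,11,5,11,8,6,11,8,6,8,4,4,4,3,8,8,4,5,5,8,5,4,5,3,4,8,4,5,4,5,8,8,4,4,3,4,4,3,8,4,8,5,5,4,5,8,5,3,4,4,8,8,5,4,5,3,4,4,8,5,4,5,8,4,8,3,4,5,4,5,8,4,8,3,4,8,2,8,2,2,2,8,8,8,8,4,11,6,8,6,11,5,6,11,4,6,5,5,11,8,5,5,5,6,6,8,5,6,4,11,6,5,3,11,6,6,11,11,8,8,6,8,4,11,5,8,4,8,11,6,5,11,11,5,8,11,3,8,5,2,8,6,8,8,8,6,6,11,3,5,11,8,11,8,5,8,5,11,4,11,8,6,5,11,4,6,6,3,5,11,6,8,6,8,2,6,6,8,8,11,8,3,5,5,11,8,11,5,6,8,6,5,5,5,8,8,8,11,5,5,11,11,3,11,6,5,4,5,6,5,11,6,8,11,11,8,6,4,8,4,8,8,11,8,6,6,11,5,11,6,5,5,11,6,4,8,6,8,2,6,6,8,8,6,4,8,8,6,11,11,8,11,3,6,5,6,4,6,11,8,5,11,4,11,8,6,5,5,8,8,11,3,11,5,11,8,11,4,8,6,8,11,6,8,3,5,11,8,11,11,5,5,8,5,5,8,5,6,6],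
[11,6,5,11,11,4,8,6,8,5,8,8,5,6,6,11,3,6,8,8,6,8,11,11,6,5,8,5,11,8,8,11,4,5,4,5,8,8,2,5,11,11,3,8,8,5,11,5,4,6,11,11,6,8,5,11,8,6,4,8,11,8,6,11,6,6,5,5,3,6,6,5,5,8,11,6,11,6,11,4,6,5,11,8,8,8,6,5,6,6,6,6,3,2,6,6,4,8,5,4,4,5,8,8,5,11,8,3,11,8,11,5,8,11,6,8,5,5,11,8,8,5,5,11,11,8,3,11,8,6,6,11,4,11,11,5,6,11,5,6,5,8,8,8,5,4,5,4,8,8,5,2,8,5,4,3,5,3,8,4,5,8,3,4,4,8,5,3,5,4,5,8,8,4,3,4,8,4,8,2,3,3,8,8,8,4,4,5,4,5,8,8,5,8,4,8,8,4,5,4,5,4,2,4,8,8,5,5,4,4,4,4,2,3,4,4,8,5,5,5,6,6,8,5,6,4,8,11,11,5,6,11,11,5,6,8,8,8,6,5,2,5,6,5,11,11,11,11,11,6,8,8,6,11,4,8,8,3,4,5,8,4,5,3,4,11,11,6,11,5,8,6,6,11,8,11,3,8,8,6,8,11,8,6,5,8,6,5,5,8,5,8,2,5,4,4,4,11,8,6,8,11,6,8,5,6,8,5,6,11,8,8,11,5,8,5,8,6,8,11,11,8,11,3,8,6,8,6,11,6,6,8,11,5,11,4,6,4,11,11,8,6,11,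5,5,6,6,5,6,5,3,6,3,5,11,11,5,8,11,8,5,4,11,11,6,8,6,11,8,11,5,6,8,8,6,5,8,8,6,6,8,3,11,11,6,5,6,5,8,5,8,5,6,6,11,5,8,8,8,5,11,5,11,5,2,6,11,11,8,3,4,5,8,4,3,5,4,11,8,8,8,6,6,11,5,11,11,6,4,11,8,6,8,11,5,5,8,11,11,3,8,8,5,5,5,5,6,6,8,6,11,8,4,8,6,11,3,4,5,6,6,11,11,6,6,8,11,4,11,8,6,8,5,8,11,5,11,8,11,3,5,8,6,11,5,4,11,8,11,5,5,11,5,6,4,6,8,8,8,8,6,6,6,2,11,4,6,6,5,3,11,6,6,5,8,5,8,11,11,8,6,11,2,11,5,5,11,11,6,11,8,11,8,6,3,8,8,11,8,6,5,8,6,5,8,4,8,5,4,8,5,4,8,6,8,5,8,5,11,6,6,5,4,3,11,6,11,6,8,6,11,8,5,5,11,8,4,8,3,4,5,5,8,4,5,8,5,5,6,6,5,8,5,11,4,8,11,8,5,6,8,5,11,11,11,3,8,5,11,11,6,8,4,8,8,6,8,11,4,8,6,11,8,6,11,4,5,6,5,11,6,5,11,11,5,3,8,5,11,8,11,3,6,5,11,6,4,6,11,5,5,6,4,6,5,11,5,4,6,6,11,5,11,5,8,6,8,11,5,6,8,5,8,8,5,8,6,11,6,5,4,8,2,8,3,3,8,8,6,11,8,11,6,8,8,3,5,11,5,8,8,6,11,8,8,4,6,11,11,5,6,11,6,8,11,6,4,11,5,11],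
[11,6,6,5,8,5,8,8,4,6,11,11,8,6,11,5,6,11,8,11,3,8,8,6,8,6,11,11,4,8,6,8,6,5,8,5,8,11,11,8,5,4,5,4,5,2,8,8,5,6,6,3,5,6,5,6,11,8,5,5,11,8,11,3,5,11,11,6,11,4,8,6,5,8,6,5,6,11,8,8,11,5,11,5,11,11,2,6,5,8,6,8,11,6,5,8,6,3,8,8,8,6,11,11,6,5,4,3,6,11,6,11,5,8,5,6,8,11,8,11,4,8,5,4,5,4,8,8,11,5,8,5,6,8,8,11,11,4,6,6,3,5,6,11,5,8,6,11,4,5,8,11,8,8,6,11,4,8,11,6,5,6,5,6,8,5,5,8,6,6,6,2,8,8,8,8,5,8,11,5,8,11,3,11,6,11,8,8,11,6,4,8,6,11,11,6,6,4,5,3,4,5,6,6,5,11,11,5,11,5,5,8,3,11,8,11,5,5,11,8,11,3,11,8,8,5,8,6,6,11,8,5,8,11,6,8,5,5,8,11,8,11,6,5,4,11,11,6,5,4,4,8,4,5,8,8,8,8,5,8,5,6,11,6,5,11,8,3,8,11,5,11,6,6,6,6,6,6,3,2,11,4,5,11,6,11,8,6,5,6,6,5,5,6,6,3,5,4,2,4,5,5,8,8,6,8,8,6,11,11,8,3,5,6,11,8,11,4,11,6,5,8,5,11,11,8,8,6,4,5,11,11,8,6,6,11,8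,5,5,6,6,11,8,8,5,8,8,11,3,11,11,5,4,11,8,6,11,8,8,6,4,5,6,11,5,6,5,11,6,8,6,5,5,5,5,8,8,11,4,8,11,6,6,8,8,3,4,4,4,8,5,5,11,11,8,5,11,3,8,5,6,4,11,6,6,11,3,5,11,11,6,8,8,4,6,8,11,4,8,5,6,5,11,8,11,8,8,5,11,3,11,5,8,4,11,8,6,11,6,8,11,8,11,3,8,6,8,6,8,6,6,11,11,5,4,11,11,6,11,2,5,5,11,11,8,8,8,5,11,6,6,5,4,6,11,8,5,11,6,11,5,8,8,5,6,6,5,5,8,11,5,6,8,8,5,6,5,4,3,8,5,3,4,8,5,11,11,5,6,5,4,6,5,5,6,8,8,8,11,6,8,8,5,8,11,6,5,6,5,6,11,5,4,6,5,11,11,6,6,8,4,11,5,11,5,6,11,11,6,8,4,11,11,8,8,6,11,8,5,5,8,2,8,4,8,8,3,3,8,6,3,8,11,11,6,8,5,8,2,8,4,4,5,5,4,5,4,2,5,5,8,8,4,4,4,4,4,4,3,2,3,8,5,4,8,4,3,5,8,5,4,5,3,4,4,8,4,5,8,3,5,3,8,4,4,8,5,8,8,4,5,4,2,8,4,8,8,8,3,3,4,5,8,4,4,5,8,8,6,8,11,4,11,8,8,6,4,5,8,3,8,4,5,3,5,8,6,8,8,5,6,11,4,8,11,6,11,6,11,5,6,4,11,11,8,6,5,11,6,5,5,8,11,6,8,8,8,3,6,8,11,11,6,8,8,5,5,5,6,6,5,8,11,11,11,11,6,2,5,5],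
[11,11,8,8,6,8,5,5,6,8,5,8,11,6,5,8,11,5,11,5,11,11,6,2,11,11,6,6,3,5,4,6,11,8,11,6,3,8,6,8,8,6,8,11,8,5,5,6,5,11,5,8,8,11,8,6,4,4,8,5,8,8,4,5,6,11,4,6,6,11,5,3,5,6,8,6,5,5,8,5,8,11,8,6,5,8,6,5,2,5,6,5,11,11,11,11,8,11,6,5,6,11,11,4,8,3,4,5,8,4,5,3,6,4,8,11,11,5,6,11,6,8,8,3,11,11,6,8,11,5,6,8,8,8,6,5,11,6,8,8,6,11,4,8,5,5,11,11,4,6,5,6,6,6,8,11,11,5,4,11,11,5,8,5,11,8,6,8,2,8,4,8,3,3,8,8,5,6,8,5,6,11,8,8,6,3,8,8,8,6,11,11,6,5,11,6,5,8,8,8,6,11,5,5,11,5,4,6,6,11,11,5,11,4,6,8,8,5,4,4,8,8,5,4,4,6,11,11,8,6,5,11,6,8,5,8,8,5,11,6,6,6,6,6,6,6,3,2,6,11,8,6,11,4,5,11,8,8,5,8,6,5,6,11,8,3,11,11,8,5,11,5,8,5,11,5,11,8,8,6,11,8,3,5,11,5,8,11,5,8,5,6,8,11,8,11,6,4,8,11,6,11,11,5,6,5,11,6,8,5,8,8,8,3,6,8,11,11,6,8,4,8,8,6,8,11,11,6,6,6,3,5,6,5,5,6,8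,5,6,11,4,11,11,6,5,5,11,8,11,8,11,3,5,4,5,4,2,5,8,8,5,8,5,4,4,8,4,3,8,5,4,3,3,5,4,8,2,4,5,4,8,8,5,5,4,8,2,8,8,8,3,3,8,5,8,4,4,5,8,4,4,5,8,3,3,5,4,8,5,4,5,4,8,8,2,5,3,4,2,4,4,4,4,4,8,5,8,4,4,5,8,4,5,6,5,6,8,5,5,8,11,8,6,6,4,11,5,11,6,8,5,8,6,11,5,8,6,8,8,6,11,11,8,3,8,8,4,11,6,8,11,6,11,8,4,6,5,11,6,11,4,3,8,5,8,4,5,3,11,6,11,2,5,5,11,11,6,11,5,6,8,5,8,8,8,5,4,5,4,8,3,4,8,11,4,8,6,11,8,6,11,11,5,3,8,5,11,8,5,11,4,8,11,8,5,6,11,3,6,5,11,6,4,6,11,11,6,8,4,8,8,6,5,3,8,11,5,11,8,11,6,5,5,11,6,4,5,11,5,8,5,5,6,6,5,8,11,8,3,11,5,11,5,8,5,8,11,5,11,8,11,3,11,5,5,11,5,6,4,6,8,6,11,8,4,8,6,11,8,8,8,8,6,6,6,2,6,8,11,4,11,8,6,8,6,11,11,6,4,6,3,5,11,5,8,4,11,8,6,5,8,8,5,5,5,5,6,6,5,4,2,4,5,5,8,8,11,5,8,5,8,6,8,11,11,6,6,8,11,5,11,4,11,8,11,3,8,6,8,6,5,6,6,5,6,5,3,6,11,8,5,6,11,4,11,6,8,8,11,5,5,11,3,11,4,11,8,6,8,11,6,8,5,6,8,5,6,11,8,8],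
[11,8,8,11,8,6,5,5,5,8,8,8,6,11,5,6,11,6,8,11,4,8,8,6,5,8,2,8,5,5,4,4,5,8,11,6,11,6,4,11,11,8,11,6,8,6,3,8,11,8,4,6,5,11,11,6,5,6,6,5,6,3,6,5,8,3,11,11,5,11,5,8,5,6,6,4,11,5,5,11,5,6,6,11,8,8,5,8,5,11,11,4,6,8,6,11,6,11,8,11,6,8,3,8,8,8,11,6,11,8,5,5,5,6,11,4,6,5,11,5,5,8,6,5,8,8,11,6,4,8,11,6,6,11,11,5,3,8,3,8,2,4,8,8,5,8,5,8,5,2,4,4,6,11,8,8,11,8,5,5,5,4,11,11,11,6,6,8,6,6,8,8,11,11,8,3,5,6,6,3,5,6,6,5,4,6,11,11,11,5,8,6,11,11,5,3,8,11,8,5,11,8,8,6,4,8,11,6,11,8,6,8,5,8,6,5,8,5,5,6,8,8,11,6,6,11,8,4,11,5,11,6,8,5,5,5,6,6,5,8,8,11,6,11,8,3,8,6,5,11,8,6,6,5,8,8,5,6,5,2,11,11,11,11,3,8,5,4,5,3,8,4,4,6,11,11,11,5,6,8,4,11,8,6,8,6,11,8,5,5,8,5,8,5,6,6,4,6,6,11,5,3,11,6,5,5,6,11,4,6,5,11,4,8,8,6,6,11,8,11,8,4,11,5,6,5,8,11,8,8,4,11,6,11,6,8,8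,11,11,5,11,3,5,8,8,5,4,5,4,8,4,3,11,11,3,5,11,8,8,5,6,6,2,6,8,8,8,8,11,11,8,3,11,5,5,8,8,5,5,8,5,5,6,6,6,5,4,3,6,11,11,6,8,5,5,11,8,11,3,11,5,11,6,8,5,4,8,11,8,11,4,6,8,11,6,8,6,8,8,11,4,8,6,11,5,5,11,11,6,5,4,6,4,8,5,8,5,4,4,8,5,6,8,11,6,5,8,8,4,11,11,5,6,8,11,6,5,11,11,8,11,3,8,5,3,8,11,11,11,5,8,5,6,2,6,3,6,6,6,6,11,11,6,4,11,5,6,8,5,11,6,6,8,5,8,8,8,6,11,8,8,11,5,5,5,8,5,8,4,4,5,2,8,3,4,4,5,5,8,4,5,4,3,8,4,8,3,5,4,4,4,4,4,4,3,2,4,5,4,5,5,2,8,8,4,5,8,3,5,3,4,8,3,8,3,8,8,8,4,2,4,8,5,8,4,8,5,4,4,4,8,5,5,4,8,8,6,8,11,5,6,5,8,8,8,11,8,6,8,5,6,5,5,8,5,6,8,11,11,8,6,8,8,11,11,8,5,5,4,4,5,8,4,5,8,8,5,11,5,11,2,6,11,11,8,11,6,11,6,8,3,8,6,3,4,5,11,6,6,11,5,11,3,6,6,11,6,4,4,5,11,11,6,11,6,8,6,11,2,11,11,11,5,5,6,11,8,6,4,8,11,8,3,11,8,11,8,6,8,6,11,6,4,8,5,11,11,6,8,5,8,8,6,11,6,5,5,6,5,6,5,8,5,8,3,8,5,4,3,5,8,4,8,5,8,6,8,5,11,6],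
[11,5,6,6,5,8,8,8,11,6,5,5,6,4,5,11,6,4,5,6,11,5,5,11,5,8,6,5,8,8,6,11,11,11,6,5,11,4,8,6,6,11,8,6,5,11,4,11,8,5,11,5,11,8,8,6,6,11,8,11,8,6,8,3,3,8,3,8,2,4,8,8,5,8,4,4,4,5,8,8,11,8,6,8,5,6,8,5,6,6,4,11,11,6,5,3,11,8,11,6,3,8,8,6,6,8,11,5,5,6,8,8,6,3,4,5,6,11,11,6,11,6,8,8,5,5,8,11,5,11,5,11,2,6,11,11,8,11,11,8,6,8,5,5,5,11,8,6,5,6,8,8,8,5,5,6,8,8,6,11,3,8,8,6,6,8,11,11,5,2,5,6,11,11,11,11,11,8,4,6,6,11,11,5,8,6,5,6,5,5,5,8,8,6,4,11,8,6,11,8,4,3,8,5,8,4,3,5,4,6,11,11,5,11,8,6,5,5,8,5,5,8,6,6,11,5,5,6,5,11,6,4,5,8,4,11,8,11,5,6,5,11,11,3,8,5,8,11,3,5,11,8,11,8,11,5,6,4,8,8,8,11,11,6,5,6,3,11,4,6,11,6,11,8,8,4,6,8,11,6,5,8,5,4,4,3,8,4,5,4,5,4,8,8,2,5,8,5,8,4,4,5,4,8,5,8,5,8,4,4,2,5,5,8,3,4,8,4,3,5,4,3,4,2,4,4,4,4,8,3,8,3,4,2,8,8,5,8,5,4,4,8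,3,4,4,8,5,8,8,4,4,5,8,3,4,5,5,3,4,8,5,8,5,8,5,2,4,4,11,8,8,5,5,11,11,3,8,6,11,8,5,5,8,11,11,4,6,11,8,6,5,11,11,5,4,11,6,8,6,11,6,11,8,8,11,6,8,4,5,5,6,6,5,6,3,6,8,11,8,6,6,5,8,5,8,6,6,8,8,3,11,11,11,6,11,2,5,5,11,11,6,6,5,11,5,8,8,8,11,11,4,5,6,11,6,8,5,6,5,6,8,5,8,5,5,8,3,4,5,3,8,4,4,8,8,11,6,8,6,11,11,11,5,6,4,11,6,8,3,11,8,11,6,8,6,8,8,6,8,5,8,5,11,6,6,8,8,11,11,6,8,4,6,2,6,6,8,8,8,8,5,4,6,6,11,5,5,11,4,3,6,5,6,11,11,6,5,5,8,8,6,6,5,5,11,11,3,8,11,5,5,8,8,11,6,8,4,8,6,11,11,8,5,5,11,8,3,11,5,11,6,8,4,5,11,8,8,8,5,8,5,6,6,11,8,5,6,11,4,11,6,11,6,6,6,6,3,2,6,6,11,11,8,5,5,8,11,3,8,5,11,5,8,11,8,6,11,6,6,8,11,5,4,11,8,6,8,5,6,11,5,8,4,4,5,8,5,4,8,8,5,8,11,5,11,3,8,11,11,6,5,8,11,6,4,11,8,8,8,5,6,5,6,11,5,5,8,11,3,11,8,11,6,11,8,4,11,6,11,5,11,8,8,11,6,8,5,5,5,6,6,5,3,6,5,6,8,5,8,2,4,4,5,5,11,6,11,8,8,6,3,8,6,8,8,4,11,6,8,11],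
[11,11,5,6,4,11,6,8,6,5,6,5,5,8,8,5,3,8,5,4,5,3,4,8,4,5,11,11,11,6,8,6,8,8,8,5,6,11,6,5,6,8,8,6,8,3,11,11,6,11,8,6,8,4,8,11,11,2,11,6,5,5,11,11,11,8,6,5,5,6,8,8,5,8,11,11,5,8,3,11,8,6,4,8,6,11,8,11,11,5,8,6,5,4,11,8,5,6,11,5,11,5,4,6,5,6,3,11,4,6,11,6,4,4,3,8,5,5,8,4,6,6,8,11,8,11,8,4,5,8,5,5,6,6,8,5,8,8,11,5,3,11,11,5,5,5,6,6,6,5,3,6,8,4,6,8,6,11,11,8,6,5,8,5,8,11,8,11,8,6,3,8,6,8,11,11,6,4,11,11,11,5,8,6,5,8,11,5,8,11,11,3,5,4,5,4,2,5,8,8,5,8,8,8,11,6,6,5,6,11,11,5,6,8,4,11,8,5,8,4,4,5,4,8,2,8,5,8,4,4,5,5,4,4,4,4,2,3,4,4,8,3,4,4,5,5,4,8,3,4,5,8,4,8,5,3,2,8,4,8,8,8,3,3,8,5,8,5,5,2,4,4,8,3,4,5,3,5,8,4,5,8,4,8,4,8,5,4,5,11,11,5,6,4,6,5,5,6,5,6,5,8,5,8,11,6,8,5,11,8,5,4,6,8,8,11,11,6,8,4,5,11,8,5,11,3,11,8,5,11,8,5,8,11,3,11,2,6,6,6,8,8,8,8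,11,8,6,4,11,8,8,6,6,6,11,11,6,4,3,5,8,11,6,8,11,8,5,5,3,4,5,6,11,6,11,6,6,11,8,11,6,8,3,8,2,11,6,11,5,5,11,11,6,8,5,8,6,11,5,8,4,4,5,8,5,4,8,8,6,8,11,8,6,5,5,8,5,6,5,8,8,11,11,8,4,11,6,6,6,11,3,5,5,11,5,8,8,6,8,11,4,8,11,6,11,6,5,11,11,4,5,6,6,5,11,5,8,2,8,4,8,8,3,3,11,8,6,6,4,11,11,5,5,6,6,4,5,11,11,5,8,6,8,11,5,6,5,8,8,3,6,8,8,6,11,11,6,6,11,5,8,5,8,8,5,8,6,8,8,5,11,6,4,3,8,5,8,4,3,5,4,6,11,11,5,11,8,6,8,5,5,6,8,8,6,11,5,2,5,6,11,11,11,11,3,8,8,6,6,8,11,11,8,5,5,5,6,6,8,5,11,8,4,6,6,11,11,5,11,8,8,6,11,6,4,8,5,8,5,11,8,11,8,6,11,11,5,3,11,8,5,8,11,8,6,6,5,11,11,4,8,11,4,6,8,11,8,6,6,6,8,8,11,11,3,8,6,6,3,5,5,6,5,6,5,8,6,5,8,8,6,11,8,11,6,5,6,11,4,11,5,8,5,8,5,2,4,4,8,8,6,11,5,5,11,8,8,6,8,5,6,11,5,8,4,5,8,4,8,8,4,5,8,5,8,8,6,11,6,5,8,11,6,6,11,4,11,5,11,5,3,8,5,11,8,11,6,6,6,6,6,6,2,3,6,11,8,5,11,4,11,6,11,11,3,8,11,5,8,5],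
[11,8,8,5,11,5,3,11,5,8,5,8,5,2,4,4,5,8,6,5,8,8,11,6,6,8,8,6,8,3,11,11,5,4,11,11,11,6,6,8,5,5,6,6,6,5,6,3,8,8,6,11,11,6,8,4,5,11,5,8,8,11,8,6,11,4,6,11,6,8,11,5,5,8,4,8,8,4,4,5,4,4,8,5,5,4,8,8,3,4,2,4,4,4,4,4,5,8,3,4,4,8,5,3,8,4,8,2,3,3,8,8,4,5,8,3,5,3,4,8,5,8,2,8,4,4,5,5,5,8,5,4,8,4,4,3,4,5,4,2,5,5,8,8,5,11,11,4,6,8,11,6,8,8,5,5,6,6,5,5,2,11,6,11,11,11,5,5,8,8,8,5,11,6,5,6,8,6,6,11,8,4,8,11,5,4,3,8,5,3,4,8,11,5,6,11,8,6,4,11,8,6,8,5,5,8,6,11,8,11,3,11,6,8,6,8,6,5,4,6,5,11,5,11,11,6,6,11,3,5,4,6,11,6,8,8,8,4,6,11,8,8,8,8,6,2,6,6,5,5,11,8,3,11,11,8,6,5,6,5,5,8,8,5,11,6,8,8,11,6,4,8,5,11,6,8,5,4,8,11,5,5,11,8,11,8,3,11,5,6,8,11,6,5,8,8,8,5,8,8,11,6,5,6,3,8,11,11,11,5,8,5,8,5,11,11,5,8,11,3,6,6,6,6,6,6,3,2,6,11,8,8,5,5,11,8,5,8,4,4,5,4,8,8,4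,11,11,6,8,6,11,5,11,6,6,8,5,11,11,4,8,5,11,5,6,8,11,8,8,4,4,5,8,8,4,5,8,5,6,5,11,8,11,8,11,6,11,8,3,8,8,6,6,4,11,6,3,5,11,6,8,6,8,5,5,8,11,6,5,11,5,11,2,6,11,11,5,5,6,8,11,6,8,8,6,3,4,5,11,6,6,11,6,5,3,6,6,5,6,5,8,8,6,3,11,11,8,6,5,5,8,11,11,3,11,8,11,6,4,11,8,6,5,11,8,5,8,8,6,5,6,11,5,8,2,8,5,5,4,4,6,11,8,4,6,11,5,11,8,8,4,6,11,8,11,6,5,6,5,8,8,11,11,8,6,3,8,8,11,11,8,6,11,11,11,11,2,6,5,5,6,5,11,8,8,8,6,5,11,8,6,8,6,5,5,8,5,5,5,8,5,8,6,6,6,5,11,11,11,4,6,8,6,4,11,8,8,11,8,6,4,6,11,11,11,5,6,8,8,5,4,3,8,4,3,5,11,5,6,6,8,5,8,8,6,6,4,5,5,11,5,11,5,11,11,6,8,6,4,11,8,3,8,3,8,8,4,2,8,8,11,6,11,8,5,5,5,5,8,6,6,11,8,8,6,11,4,5,11,5,5,6,6,6,11,8,4,11,11,5,11,6,11,8,8,3,6,8,6,11,5,5,6,4,11,5,11,8,6,11,4,8,6,8,8,5,5,5,5,8,6,6,5,6,3,11,6,4,6,11,8,11,6,6,8,11,8,4,8,6,11,5,5,4,11,8,8,11,11,5,11,3,5,8,5,11,11,3,5,8,11,8,5,4,5,8,4,3,8,4],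
[11,4,8,5,6,5,11,8,11,8,6,6,4,8,11,8,5,5,11,6,11,5,6,4,11,3,6,5,6,11,6,4,8,11,5,3,5,11,8,11,5,3,11,11,8,5,11,8,5,4,5,8,4,3,4,8,8,6,5,6,5,8,5,5,4,6,8,8,11,6,8,11,5,5,8,11,8,11,11,3,4,11,5,8,6,5,8,11,5,8,8,5,6,6,5,5,5,5,8,11,11,3,8,11,8,8,6,11,6,11,8,4,11,11,5,5,4,6,6,5,11,8,8,6,6,11,4,8,8,8,8,8,6,2,6,6,6,3,4,5,11,6,11,6,5,6,5,8,11,8,11,8,5,4,4,8,4,5,8,8,6,6,11,4,5,3,11,6,8,6,8,5,5,8,6,11,6,11,11,6,4,6,5,3,5,11,5,11,6,2,11,11,8,6,5,5,8,8,11,6,6,11,8,11,6,8,8,3,11,8,8,6,5,5,11,8,8,5,6,11,11,4,6,11,6,11,11,8,6,8,8,4,6,5,11,11,6,8,11,4,5,8,2,8,5,5,4,4,6,6,3,5,5,6,6,5,5,11,6,6,8,8,8,5,8,11,6,11,8,3,6,8,11,11,3,8,5,8,5,11,8,5,6,5,11,8,8,11,5,4,11,11,8,6,6,11,11,8,8,6,11,8,5,5,2,8,4,8,3,3,8,8,11,11,5,5,4,6,5,6,11,5,6,11,11,4,6,8,5,4,11,6,5,6,11,5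,8,5,8,8,5,6,6,11,6,8,5,5,8,8,6,11,11,8,11,6,3,8,6,8,6,5,3,6,5,6,6,5,4,5,11,11,8,6,6,11,5,8,8,11,3,11,11,5,6,8,8,6,11,11,8,3,4,11,8,6,11,8,8,6,5,8,5,11,11,8,8,6,6,4,11,11,6,8,5,11,8,6,8,11,6,5,5,8,5,4,2,4,5,5,8,8,11,5,6,8,8,8,5,6,5,8,5,5,8,5,6,6,4,5,8,3,4,8,3,5,8,11,6,11,3,8,8,6,11,6,5,8,4,11,6,11,11,5,6,11,11,4,8,6,6,5,2,5,11,11,11,11,6,8,11,4,11,8,8,6,8,11,8,6,8,5,5,6,4,6,11,8,5,11,6,11,11,5,6,6,8,8,8,5,11,6,6,8,8,11,8,4,5,11,5,11,11,11,2,6,8,5,5,8,6,6,5,5,6,8,5,8,11,6,8,5,4,5,8,3,8,4,3,5,6,6,11,8,4,11,5,11,3,11,8,11,6,8,8,6,6,6,6,6,6,6,2,3,8,4,8,5,8,4,4,5,6,5,8,11,11,4,6,11,5,8,6,8,8,5,11,6,5,11,5,8,6,8,11,8,11,5,8,11,5,8,3,11,5,5,11,8,11,3,11,8,6,11,5,6,8,5,8,8,6,11,8,6,4,11,11,5,5,4,3,8,4,8,5,3,8,5,8,5,2,5,4,4,4,8,2,8,8,8,3,3,5,4,5,8,4,8,4,3,8,4,8,5,4,5,8,4,4,4,4,4,2,3,4,4,2,8,5,8,4,4,5,5,5,8,4,8,4,8,4,5,4,3,8,5,5,3,4,8]]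

theorem T0_toL : T0.map toL = TL0 := by decide +kernel
theorem T1_toL : T1.map toL = TL1 := by decide +kernel
theorem T2_toL : T2.map toL = TL2 := by decide +kernel
theorem T3_toL : T3.map toL = TL3 := by decide +kernel

theorem val_eq {σ : P11} {i : Fin 11} {n : ℕ} (h : ap (toL σ) i.val = n) : (σ i).val = n := by
  rw [← h, ap_toL]

theorem TL0_inj : ∀ a ∈ TL0, ∀ a' ∈ TL0, ap a 0 = ap a' 0 → a = a' := by decide +kernel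
theorem TL1_fix : ∀ b ∈ TL1, ap b 0 = 0 := by decide +kernel
theorem TL1_inj : ∀ b ∈ TL1, ∀ b' ∈ TL1, ap b 1 = ap b' 1 → b = b' := by decide +kernel
theorem TL2_fix : ∀ b ∈ TL2, ap b 0 = 0 ∧ ap b 1 = 1 := by decide +kernel
theorem TL2_inj : ∀ b ∈ TL2, ∀ b' ∈ TL2, ap b 2 = ap b' 2 → b = b' := by decide +kernel
theorem TL3_fix : ∀ b ∈ TL3, ap b 0 = 0 ∧ ap b 1 = 1 ∧ ap b 2 = 2 := by decide +kernel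
theorem TL3_inj : ∀ b ∈ TL3, ∀ b' ∈ TL3, ap b 3 = ap b' 3 → b = b' := by decide +kernel
theorem TL0_nodup : TL0.Nodup := by decide +kernel
theorem TL1_nodup : TL1.Nodup := by decide +kernel
theorem TL2_nodup : TL2.Nodup := by decide +kernel
theorem TL3_nodup : TL3.Nodup := by decide +kernel

theorem inj_of {T : List P11} {TL : List (List ℕ)} (hT : T.map toL = TL) {i : Fin 11}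
    (h : ∀ b ∈ TL, ∀ b' ∈ TL, ap b i.val = ap b' i.val → b = b') :
    ∀ a ∈ T, ∀ a' ∈ T, a i = a' i → a = a' := by
  intro a ha a' ha' hh
  apply toL_injective
  apply h _ (hT ▸ List.mem_map_of_mem ha) _ (hT ▸ List.mem_map_of_mem ha')
  rw [ap_toL, ap_toL, hh]

theorem nodup_of {T : List P11} {TL : List (List ℕ)} (hT : T.map toL = TL) (h : TL.Nodup) :
    T.Nodup := List.Nodup.of_map toL (hT ▸ h)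

theorem T0_inj : ∀ a ∈ T0, ∀ a' ∈ T0, a 0 = a' 0 → a = a' := inj_of T0_toL TL0_inj
theorem T1_inj : ∀ b ∈ T1, ∀ b' ∈ T1, b 1 = b' 1 → b = b' := inj_of T1_toL TL1_inj
theorem T2_inj : ∀ b ∈ T2, ∀ b' ∈ T2, b 2 = b' 2 → b = b' := inj_of T2_toL TL2_inj
theorem T3_inj : ∀ b ∈ T3, ∀ b' ∈ T3, b 3 = b' 3 → b = b' := inj_of T3_toL TL3_inj
theorem T0_nodup : T0.Nodup := nodup_of T0_toL TL0_nodup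
theorem T1_nodup : T1.Nodup := nodup_of T1_toL TL1_nodup
theorem T2_nodup : T2.Nodup := nodup_of T2_toL TL2_nodup
theorem T3_nodup : T3.Nodup := nodup_of T3_toL TL3_nodup

theorem T1_fix : ∀ b ∈ T1, b 0 = 0 := by
  intro b hb
  have h := TL1_fix _ (T1_toL ▸ List.mem_map_of_mem hb)
  exact Fin.ext (val_eq (i := 0) h)

theorem T2_fix : ∀ b ∈ T2, b 0 = 0 ∧ b 1 = 1 := by
  intro b hb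
  have h := TL2_fix _ (T2_toL ▸ List.mem_map_of_mem hb)
  exact ⟨Fin.ext (val_eq (i := 0) h.1), Fin.ext (val_eq (i := 1) h.2)⟩

theorem T3_fix : ∀ b ∈ T3, b 0 = 0 ∧ b 1 = 1 ∧ b 2 = 2 := by
  intro b hb
  have h := TL3_fix _ (T3_toL ▸ List.mem_map_of_mem hb)
  exact ⟨Fin.ext (val_eq (i := 0) h.1), Fin.ext (val_eq (i := 1) h.2.1),
    Fin.ext (val_eq (i := 2) h.2.2)⟩

/-- The product map. -/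
def prod4 (t : P11 × P11 × P11 × P11) : P11 := t.1 * (t.2.1 * (t.2.2.1 * t.2.2.2))

/-- The index list. -/
def P : List (P11 × P11 × P11 × P11) := T0 ×ˢ (T1 ×ˢ (T2 ×ˢ T3))

/-- All elements. -/
def E : List P11 := P.map prod4

theorem P_nodup : P.Nodup := T0_nodup.product (T1_nodup.product (T2_nodup.product T3_nodup))

theorem mem_P {a b c d : P11} : (a, b, c, d) ∈ P ↔ a ∈ T0 ∧ b ∈ T1 ∧ c ∈ T2 ∧ d ∈ T3 := by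
  simp [P]

theorem prod4_inj : ∀ t ∈ P, ∀ t' ∈ P, prod4 t = prod4 t' → t = t' := by
  rintro ⟨a, b, c, d⟩ ht ⟨a', b', c', d'⟩ ht' h
  obtain ⟨ha, hb, hc, hd⟩ := mem_P.1 ht
  obtain ⟨ha', hb', hc', hd'⟩ := mem_P.1 ht'
  simp only [prod4] at h
  have hd0 := T3_fix d hd
  have hd0' := T3_fix d' hd'
  have hc0 := T2_fix c hc
  have hc0' := T2_fix c' hc'
  have hb0 := T1_fix b hb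
  have hb0' := T1_fix b' hb'
  have h0 := DFunLike.congr_fun h 0
  simp only [Equiv.Perm.mul_apply, hd0.1, hd0'.1, hc0.1, hc0'.1, hb0, hb0'] at h0
  obtain rfl := T0_inj a ha a' ha' h0
  have h1 := mul_left_cancel h
  have h2 := DFunLike.congr_fun h1 1
  simp only [Equiv.Perm.mul_apply, hd0.2.1, hd0'.2.1, hc0.2, hc0'.2] at h2
  obtain rfl := T1_inj b hb b' hb' h2
  have h3 := mul_left_cancel h1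
  have h4 := DFunLike.congr_fun h3 2
  simp only [Equiv.Perm.mul_apply, hd0.2.2, hd0'.2.2] at h4
  obtain rfl := T2_inj c hc c' hc' h4
  have h5 := mul_left_cancel h3
  have h6 := DFunLike.congr_fun h5 3
  obtain rfl := T3_inj d hd d' hd' h6
  rfl

theorem E_nodup : E.Nodup := List.Nodup.map_on prod4_inj P_nodup

theorem E_length : E.length = 7920 := by
  have h0 : T0.length = 11 := rfl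
  have h1 : T1.length = 10 := rfl
  have h2 : T2.length = 9 := rfl
  have h3 : T3.length = 8 := rfl
  simp only [E, P, List.length_map, List.length_product, h0, h1, h2, h3]

theorem T0_mem : ∀ a ∈ T0, a ∈ K := by
  intro a ha
  obtain ⟨i, -, rfl⟩ := List.mem_map.1 ha
  exact K.pow_mem (Subgroup.subset_closure (by simp)) _

theorem Tw_mem {W : List (List (Fin 3))} : ∀ a ∈ W.map evalW, a ∈ K := by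
  intro a ha
  obtain ⟨i, -, rfl⟩ := List.mem_map.1 ha
  exact evalW_mem i

theorem E_mem : ∀ g ∈ E, g ∈ K := by
  intro g hg
  obtain ⟨⟨a, b, c, d⟩, ht, rfl⟩ := List.mem_map.1 hg
  obtain ⟨ha, hb, hc, hd⟩ := mem_P.1 ht
  exact K.mul_mem (T0_mem a ha) (K.mul_mem (Tw_mem b hb) (K.mul_mem (Tw_mem c hc) (Tw_mem d hd)))

/-- `K` is exactly the set of elements of the list, when it has order 7920. -/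
theorem mem_E_iff (hK : Nat.card K = 7920) (g : P11) : g ∈ K ↔ g ∈ E := by
  classical
  refine ⟨fun hg => ?_, E_mem g⟩
  have hsub : ((E.toFinset : Finset P11) : Set P11) ⊆ (K : Set P11) := by
    intro h hh
    exact E_mem h (by simpa using hh)
  have heq : ((E.toFinset : Finset P11) : Set P11) = (K : Set P11) := by
    apply Set.eq_of_subset_of_ncard_le hsub
    · rw [Set.ncard_coe_finset, List.toFinset_card_of_nodup E_nodup, E_length, ← Nat.card_coe_set_eq]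
      exact hK.le
  have h2 : g ∈ ((E.toFinset : Finset P11) : Set P11) := by
    rw [heq]
    exact hg
  simpa using h2

/-! ## Orders by computation -/

/-- Search for the order. -/
def ordGo (l : List ℕ) (fuel : ℕ) : List ℕ → ℕ → ℕ :=
  Nat.rec (fun _ _ => 0) (fun _ ih cur k => cond (eqL cur idL) k (ih (mulL l cur) (Nat.succ k))) fuel

/-- The order. -/
def ordL (l : List ℕ) : ℕ := ordGo l 12 l 1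

theorem ordGo_spec (σ : P11) (fuel k : ℕ) (hk : 0 < k) (hm : ∀ m, m < k → 0 < m → σ ^ m ≠ 1)
    (h0 : ordGo (toL σ) fuel (toL (σ ^ k)) k ≠ 0) :
    orderOf σ = ordGo (toL σ) fuel (toL (σ ^ k)) k := by
  induction fuel generalizing k with
  | zero => exact absurd rfl h0
  | succ n ih =>
    have hstep : ordGo (toL σ) (n + 1) (toL (σ ^ k)) k =
        cond (eqL (toL (σ ^ k)) idL) k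
          (ordGo (toL σ) n (mulL (toL σ) (toL (σ ^ k))) (Nat.succ k)) := rfl
    rw [hstep] at h0 ⊢
    cases h : eqL (toL (σ ^ k)) idL with
    | true =>
      rw [cond_true]
      have h1 : toL (σ ^ k) = toL 1 := (eqL_iff _ _).1 h
      have h2 : σ ^ k = 1 := toL_injective h1
      rw [orderOf_eq_iff hk]
      exact ⟨h2, hm⟩
    | false =>
      rw [h, cond_false] at h0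
      rw [cond_false]
      have h2 : σ ^ k ≠ 1 := by
        intro h3
        have h4 : eqL (toL (σ ^ k)) idL = true := by
          rw [h3]
          exact (eqL_iff _ _).2 rfl
        rw [h4] at h
        exact Bool.noConfusion h
      have h3 : mulL (toL σ) (toL (σ ^ k)) = toL (σ ^ (k + 1)) := by
        rw [mulL_toL, pow_succ']
      rw [h3] at h0 ⊢
      apply ih (k + 1) (Nat.succ_pos k) _ h0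
      intro m hm1 hm2
      rcases Nat.lt_succ_iff_lt_or_eq.1 hm1 with h4 | rfl
      · exact hm m h4 hm2
      · exact h2

theorem ordL_spec (σ : P11) (h0 : ordL (toL σ) ≠ 0) : orderOf σ = ordL (toL σ) := by
  have h1 : σ ^ 1 = σ := pow_one σ
  have := ordGo_spec σ 12 1 Nat.one_pos (fun m hm hm0 => absurd hm0 (by omega))
    (by rw [h1]; exact h0)
  rw [h1] at this
  exact this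

/-! ## The data -/

/-- The computation. -/
def ordOf (t : List ℕ × List ℕ × List ℕ × List ℕ) : ℕ :=
  ordL (mulL t.1 (mulL t.2.1 (mulL t.2.2.1 t.2.2.2)))

set_option maxRecDepth 100000 in
theorem OO_eq : TL0.map (fun a => (TL1 ×ˢ (TL2 ×ˢ TL3)).map (fun t => ordOf (a, t))) = OO := by
  decide +kernel

/-- All orders. -/
def O : List ℕ := OO.flatten

theorem O_eq : (TL0 ×ˢ (TL1 ×ˢ (TL2 ×ˢ TL3))).map ordOf = O := by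
  rw [O, ← OO_eq]
  generalize (TL1 ×ˢ (TL2 ×ˢ TL3)) = R
  induction TL0 with
  | nil => rfl
  | cons a l ih =>
    simp only [List.product_cons, List.map_append, List.map_cons, List.flatten_cons, ih,
      List.map_map]
    rfl

set_option maxRecDepth 100000 in
theorem OO_vals : ∀ l ∈ OO, ∀ m ∈ l, m = 1 ∨ m = 2 ∨ m = 3 ∨ m = 4 ∨ m = 5 ∨ m = 6 ∨ m = 8 ∨ m = 11 := by
  decide +kernel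

theorem O_vals : ∀ m ∈ O, m = 1 ∨ m = 2 ∨ m = 3 ∨ m = 4 ∨ m = 5 ∨ m = 6 ∨ m = 8 ∨ m = 11 := by
  intro m hm
  obtain ⟨l, hl, hml⟩ := List.mem_flatten.1 hm
  exact OO_vals l hl m hml

theorem O_ne : ∀ m ∈ O, m ≠ 0 := by
  intro m hm
  have := O_vals m hm
  omega

/-- Counts in the chunks. -/
def countO (n : ℕ) : ℕ := (OO.map (List.count n)).sum

theorem O_count_eq (n : ℕ) : O.count n = countO n := List.count_flatten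

set_option maxRecDepth 100000 in
theorem count_table : countO 1 = 1 ∧ countO 2 = 165 ∧ countO 3 = 440 ∧ countO 4 = 990 ∧
    countO 5 = 1584 ∧ countO 6 = 1320 ∧ countO 8 = 1980 ∧ countO 11 = 1440 := by
  decide +kernel

theorem O_count : O.count 1 = 1 ∧ O.count 2 = 165 ∧ O.count 3 = 440 ∧ O.count 4 = 990 ∧
    O.count 5 = 1584 ∧ O.count 6 = 1320 ∧ O.count 8 = 1980 ∧ O.count 11 = 1440 := by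
  simp only [O_count_eq]
  exact count_table

theorem map_prod_list {α β γ δ : Type*} (f : α → γ) (g : β → δ) (l₁ : List α) (l₂ : List β) :
    (l₁ ×ˢ l₂).map (Prod.map f g) = (l₁.map f) ×ˢ (l₂.map g) := by
  induction l₁ with
  | nil => simp
  | cons a l ih =>
    simp only [List.product_cons, List.map_cons, List.map_append, List.map_map, ih]
    congr 1

theorem E_ord : E.map (fun g => ordL (toL g)) = O := by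
  rw [← O_eq, ← T0_toL, ← T1_toL, ← T2_toL, ← T3_toL, ← map_prod_list, ← map_prod_list,
    ← map_prod_list, List.map_map, E, List.map_map]
  unfold P
  apply List.map_congr_left
  rintro ⟨a, b, c, d⟩ -
  simp [prod4, ordOf, mulL_toL]

theorem E_order : E.map orderOf = O := by
  rw [← E_ord]
  apply List.map_congr_left
  intro g hg
  apply ordL_spec
  apply O_ne
  rw [← E_ord]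
  exact List.mem_map_of_mem hg

/-- The number of elements of a given order. -/
theorem card_order (hK : Nat.card K = 7920) (n : ℕ) :
    Nat.card {g : K // orderOf g = n} = O.count n := by
  classical
  have h1 : Nat.card {g : K // orderOf g = n} = Nat.card {g : P11 // g ∈ (E.filter (fun g => orderOf g = n)).toFinset} := by
    apply Nat.card_congr
    refine ⟨fun g => ⟨g.1.1, ?_⟩, fun g => ⟨⟨g.1, ?_⟩, ?_⟩, fun g => rfl, fun g => rfl⟩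
    · have := (mem_E_iff hK g.1.1).1 g.1.2
      have h2 : orderOf g.1.1 = n := by rw [Subgroup.orderOf_coe]; exact g.2
      simp [this, h2]
    · have h2 := g.2
      simp only [List.mem_toFinset, List.mem_filter, decide_eq_true_eq] at h2
      exact E_mem _ h2.1
    · have h2 := g.2
      simp only [List.mem_toFinset, List.mem_filter, decide_eq_true_eq] at h2
      rw [← Subgroup.orderOf_coe]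
      exact h2.2
  rw [h1, Nat.card_eq_fintype_card, Fintype.card_coe, List.toFinset_card_of_nodup (E_nodup.filter _),
    ← E_order, List.count, List.countP_map, List.countP_eq_length_filter]
  congr 2

end Cfsg.Agent.Lib.M11Rec.Table
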