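import Cfsg.Agent.Lib.M11Rec.Simple
import Cfsg.Agent.Lib.M11Rec.Table
import Cfsg.Agent.Lib.Golay.M12
import Cfsg.Agent.S0420

/-!
# The concrete group `Spor.M11`

The element orders of `Spor.M11`, and the recognition theorem from element counts.
-/

set_option autoImplicit false
set_option linter.unusedSectionVars false
set_option linter.style.haveILetI false

namespace Cfsg.Agent.Lib.M11Rec.Bridge

open Subgroup Cfsg Cfsg.Agent.Lib.Golay.Core Cfsg.Agent.Lib.Golay.Perm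
  Cfsg.Agent.Lib.Golay.Chain Cfsg.Agent.Lib.Golay.M24 Cfsg.Agent.Lib.Golay.Basic
  Cfsg.Agent.Lib.Golay.Stab Cfsg.Agent.Lib.Golay.Dodecad Cfsg.Agent.Lib.Golay.M12
  Cfsg.Agent.Lib.SmallSimple
open scoped Pointwise

theorem D0_mem : setOf D0 ∈ dodecads :=
  (setOf_mem_dodecads_iff D0_lt).mpr ⟨by decide +kernel, by decide +kernel⟩

theorem pt_zero : pt 0 = (some 0 : GolayPt) := by decide +kernel

theorem pt_mem : pt 0 ∈ setOf D0 := by decide +kernel

/-- The model. -/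
abbrev TT := ↥(MulAction.stabilizer Cfsg.M24 (setOf D0) ⊓ MulAction.stabilizer Cfsg.M24 (pt 0))

theorem mem_M11_iff {σ : Equiv.Perm GolayPt} :
    σ ∈ Spor.M11 ↔ σ ∈ Cfsg.M24 ∧ σ • setOf D0 = setOf D0 ∧ σ (pt 0) = pt 0 := by
  rw [pt_zero, ← squareDodecad_eq]
  constructor
  · rintro ⟨⟨h1, h2⟩, h3⟩
    exact ⟨h1, h2, h3⟩
  · rintro ⟨h1, h2, h3⟩
    exact ⟨⟨h1, h2⟩, h3⟩

/-- The isomorphism. -/
noncomputable def equivT : TT ≃* ↥Spor.M11 :=
  (mapEquiv Cfsg.M24 (MulAction.stabilizer Cfsg.M24 (setOf D0) ⊓ MulAction.stabilizer Cfsg.M24 (pt 0))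
    Spor.M11 (by
      intro x
      rw [mem_M11_iff]
      constructor
      · rintro ⟨h1, h2, h3⟩
        exact ⟨h1, MulAction.mem_stabilizer_iff.mpr h2, MulAction.mem_stabilizer_iff.mpr h3⟩
      · rintro ⟨hx, h2, h3⟩
        exact ⟨hx, MulAction.mem_stabilizer_iff.mp h2, MulAction.mem_stabilizer_iff.mp h3⟩))

theorem card_M11 : Nat.card Spor.M11 = 7920 := by
  rw [← Nat.card_congr equivT.toEquiv]
  exact card_stab_dodecad_point D0_mem pt_mem

instance simple_M11 : IsSimpleGroup ↥Spor.M11 :=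
  haveI := Cfsg.Agent.Lib.PermComp.Mathieu.Simple1x.isSimple_stab_dodecad_point D0_mem pt_mem
  equivT.symm.isSimpleGroup

/-- Simple groups of order 7920 are isomorphic to `Spor.M11`. -/
theorem nonempty_iso {G : Type*} [Group G] [Finite G] [IsSimpleGroup G] (h : Nat.card G = 7920) :
    Nonempty (G ≃* ↥Spor.M11) := by
  obtain ⟨e⟩ := Cfsg.Agent.S0420.result (G := G) ⟨inferInstance, h⟩ (setOf D0) D0_mem (pt 0) pt_mem
  exact ⟨e.trans equivT⟩

/-- The isomorphism with the model `K`. -/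
theorem nonempty_iso_K : Nonempty (↥Spor.M11 ≃* Cfsg.Agent.Lib.M11U.NormalForm.K) := by
  classical
  letI : Fintype ↥Spor.M11 := Fintype.ofFinite _
  haveI := Cfsg.Agent.Lib.Char.Ortho.finite_irrCharacter (G := ↥Spor.M11)
  letI : Fintype (Cfsg.IrrCharacter ↥Spor.M11) := Fintype.ofFinite _
  exact Cfsg.Agent.Lib.M11U.Assemble.nonempty_mulEquiv_K card_M11

theorem card_K : Nat.card Cfsg.Agent.Lib.M11U.NormalForm.K = 7920 := by
  obtain ⟨e⟩ := nonempty_iso_K
  rw [← Nat.card_congr e.toEquiv, card_M11]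

/-- Numbers of elements of given order. -/
theorem card_order (n : ℕ) :
    Nat.card {g : ↥Spor.M11 // orderOf g = n} = Cfsg.Agent.Lib.M11Rec.Table.O.count n := by
  obtain ⟨e⟩ := nonempty_iso_K
  rw [← Cfsg.Agent.Lib.M11Rec.Table.card_order card_K n]
  apply Nat.card_congr
  refine e.toEquiv.subtypeEquiv ?_
  intro g
  have : orderOf (e g) = orderOf g := MulEquiv.orderOf_eq e g
  simp [this]

theorem count_other {n : ℕ} (h : n ≠ 1 ∧ n ≠ 2 ∧ n ≠ 3 ∧ n ≠ 4 ∧ n ≠ 5 ∧ n ≠ 6 ∧ n ≠ 8 ∧ n ≠ 11) :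
    Cfsg.Agent.Lib.M11Rec.Table.O.count n = 0 := by
  rw [List.count_eq_zero]
  intro hn
  have := Cfsg.Agent.Lib.M11Rec.Table.O_vals n hn
  omega

/-- The orders of elements. -/
theorem orderOf_cases (g : ↥Spor.M11) : orderOf g = 1 ∨ orderOf g = 2 ∨ orderOf g = 3 ∨
    orderOf g = 4 ∨ orderOf g = 5 ∨ orderOf g = 6 ∨ orderOf g = 8 ∨ orderOf g = 11 := by
  by_contra hcon
  push Not at hcon
  have h1 := card_order (orderOf g)
  rw [count_other hcon] at h1
  have h2 : Nat.card {x : ↥Spor.M11 // orderOf x = orderOf g} ≠ 0 := by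
    rw [Nat.card_ne_zero]
    exact ⟨⟨⟨g, rfl⟩⟩, inferInstance⟩
  exact h2 h1

/-- **Recognition from element counts.** -/
theorem nonempty_iso_of_counts {G : Type*} [Group G] [Finite G] (hG : Nat.card G = 7920)
    (h11 : Nat.card {g : G // orderOf g = 11} = 1440)
    (h5 : Nat.card {g : G // orderOf g = 5} = 1584) : Nonempty (G ≃* ↥Spor.M11) := by
  classical
  obtain ⟨P⟩ : Nonempty (Sylow 11 G) := inferInstance
  obtain ⟨Q⟩ : Nonempty (Sylow 5 G) := inferInstance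
  have hP := Count.card_orderOf_eq_of_card_sylow P (Simple.card11 hG P)
  have hQ := Count.card_orderOf_eq_of_card_sylow Q (Simple.card5 hG Q)
  rw [h11] at hP
  rw [h5] at hQ
  have hn11 : Nat.card (Sylow 11 G) = 144 := by omega
  have hn5 : Nat.card (Sylow 5 G) = 396 := by omega
  haveI := Simple.isSimpleGroup hG hn11 hn5
  exact nonempty_iso hG

end Cfsg.Agent.Lib.M11Rec.Bridge
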