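import Cfsg.Agent.Lib.Small.Sieve
import Cfsg.Agent.Lib.SmallSimple.G168

/-!
# A simplicity criterion for groups of order 7920

A group of order 7920 with 144 Sylow 11-subgroups and 396 Sylow 5-subgroups is simple.
-/

set_option autoImplicit false
set_option linter.unusedSectionVars false

namespace Cfsg.Agent.Lib.M11Rec.Simple

open Subgroup Cfsg.Agent.Lib.Small.Basic Cfsg.Agent.Lib.Small.Sieve Cfsg.Agent.Lib.SmallSimple

variable {G : Type*} [Group G] [Finite G]

/-- Frattini-type divisibility. -/
theorem index_dvd_of_sup {A K : Subgroup G} [K.Normal] (h : A ⊔ K = ⊤) :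
    K.index ∣ Nat.card A := by
  have h1 : K.relIndex (A ⊔ K) = K.relIndex A := Subgroup.relIndex_sup_right A K
  rw [h, Subgroup.relIndex_top_right] at h1
  rw [h1]
  exact Subgroup.relIndex_dvd_card _ _

theorem card_dvd_of_sup {A K : Subgroup G} [K.Normal] (h : A ⊔ K = ⊤) :
    Nat.card G ∣ Nat.card A * Nat.card K := by
  rw [← K.card_mul_index, mul_comm (Nat.card A)]
  exact mul_dvd_mul_left _ (index_dvd_of_sup h)

instance fact2 : Fact (Nat.Prime 2) := ⟨by norm_num⟩
instance fact3 : Fact (Nat.Prime 3) := ⟨by norm_num⟩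
instance fact5 : Fact (Nat.Prime 5) := ⟨by norm_num⟩
instance fact11 : Fact (Nat.Prime 11) := ⟨by norm_num⟩

variable (hc : Nat.card G = 7920) (h11 : Nat.card (Sylow 11 G) = 144)
  (h5 : Nat.card (Sylow 5 G) = 396)

include hc

theorem card11 (P : Sylow 11 G) : Nat.card P = 11 := by
  have := card_sylow_eq (p := 11) (k := 1) (m := 720) (by rw [hc]; norm_num) (by norm_num) P
  simpa using this

theorem card5 (P : Sylow 5 G) : Nat.card P = 5 := by
  have := card_sylow_eq (p := 5) (k := 1) (m := 1584) (by rw [hc]; norm_num) (by norm_num) P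
  simpa using this

/-- A subgroup of order divisible by `p` contains a Sylow subgroup, when these have order `p`. -/
theorem exists_sylow_le {p : ℕ} [Fact p.Prime] {K : Subgroup G} (h : p ∣ Nat.card K)
    (hp : ∀ P : Sylow p G, Nat.card P = p) : ∃ P : Sylow p G, (P : Subgroup G) ≤ K := by
  obtain ⟨y, hy⟩ := exists_prime_orderOf_dvd_card' (G := K) p h
  have hy' : orderOf (y : G) = p := by rw [Subgroup.orderOf_coe, hy]
  have hpg : IsPGroup p (Subgroup.zpowers (y : G)) := by
    apply IsPGroup.of_card (n := 1)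
    rw [Nat.card_zpowers, hy', pow_one]
  obtain ⟨Q, hQ⟩ := hpg.exists_le_sylow
  refine ⟨Q, ?_⟩
  have h1 : Subgroup.zpowers (y : G) = (Q : Subgroup G) :=
    Subgroup.eq_of_le_of_card_ge hQ (by rw [hp Q, Nat.card_zpowers, hy'])
  rw [← h1, Subgroup.zpowers_le]
  exact y.2

include h11

theorem card_normalizer11 (P : Sylow 11 G) :
    Nat.card (Subgroup.normalizer ((P : Subgroup G) : Set G)) = 55 := by
  have := Count.card_sylow_mul_card_normalizer P
  rw [h11, hc] at this
  omega

omit h11

include h5

theorem card_normalizer5 (P : Sylow 5 G) :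
    Nat.card (Subgroup.normalizer ((P : Subgroup G) : Set G)) = 20 := by
  have := Count.card_sylow_mul_card_normalizer P
  rw [h5, hc] at this
  omega

omit h5

include h11 h5

/-- There is no non-trivial normal subgroup of order prime to 11. -/
theorem no_small {K : Subgroup G} [K.Normal] (hK : K ≠ ⊥) (h11K : ¬ 11 ∣ Nat.card K) : False := by
  have hdK : Nat.card K ∣ 7920 := hc ▸ Subgroup.card_subgroup_dvd_card K
  -- first, the order is prime to 5
  have h5K : ¬ 5 ∣ Nat.card K := by
    intro h
    obtain ⟨Q, hQ⟩ := exists_sylow_le (hc := hc) h (card5 hc)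
    have h1 : Subgroup.normalizer ((Q : Subgroup G) : Set G) ⊔ K = ⊤ :=
      Sylow.normalizer_sup_eq_top' Q hQ
    have h2 := card_dvd_of_sup h1
    rw [card_normalizer5 hc h5 Q, hc] at h2
    apply h11K
    obtain ⟨c, hc'⟩ := h2
    exact ⟨36 * c, by omega⟩
  have hne : Nat.card K ≠ 1 := by
    intro h
    exact hK ((Subgroup.card_eq_one).1 h)
  obtain ⟨p, hp, hpK⟩ := Nat.exists_prime_and_dvd hne
  have : Fact p.Prime := ⟨hp⟩
  have hp7920 : p ∣ 7920 := hpK.trans hdK
  have hp23 : p = 2 ∨ p = 3 := by
    have h7920 : (7920 : ℕ) = 2 ^ 4 * 3 ^ 2 * 5 * 11 := by norm_num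
    rw [h7920] at hp7920
    rcases (Nat.Prime.dvd_mul hp).1 hp7920 with h | h
    · rcases (Nat.Prime.dvd_mul hp).1 h with h | h
      · rcases (Nat.Prime.dvd_mul hp).1 h with h | h
        · left
          exact (Nat.prime_dvd_prime_iff_eq hp (by norm_num)).1 (hp.dvd_of_dvd_pow h)
        · right
          exact (Nat.prime_dvd_prime_iff_eq hp (by norm_num)).1 (hp.dvd_of_dvd_pow h)
      · have := (Nat.prime_dvd_prime_iff_eq hp (by norm_num)).1 h
        subst this
        exact absurd hpK h5K
    · have := (Nat.prime_dvd_prime_iff_eq hp (by norm_num)).1 h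
      subst this
      exact absurd hpK h11K
  obtain ⟨T₀⟩ : Nonempty (Sylow p K) := inferInstance
  set T : Subgroup G := (T₀ : Subgroup K).map K.subtype with hT
  have hsup : Subgroup.normalizer (T : Set G) ⊔ K = ⊤ := Sylow.normalizer_sup_eq_top T₀
  have h2 := card_dvd_of_sup hsup
  rw [hc] at h2
  have hdN : 11 ∣ Nat.card (Subgroup.normalizer (T : Set G)) := by
    have h3 : 11 ∣ Nat.card (Subgroup.normalizer (T : Set G)) * Nat.card K :=
      Dvd.dvd.trans (by norm_num) h2
    exact ((Nat.Prime.dvd_mul (by norm_num)).1 h3).resolve_right h11K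
  obtain ⟨y₀, hy₀⟩ := exists_prime_orderOf_dvd_card' 11 hdN
  set y : G := (y₀ : G) with hy
  have hy11 : orderOf y = 11 := by rw [hy, Subgroup.orderOf_coe, hy₀]
  have hcT : Nat.card T = Nat.card (T₀ : Subgroup K) := SylowBasic.card_map_subtype _
  have hpgT : IsPGroup p T := by
    rw [IsPGroup.iff_card]
    obtain ⟨n, hn⟩ := IsPGroup.iff_card.1 T₀.isPGroup'
    exact ⟨n, hcT.trans hn⟩
  obtain ⟨n, hn⟩ := IsPGroup.iff_card.1 hpgT
  have hT1 : (T₀ : Subgroup K) ≠ ⊥ := T₀.ne_bot_of_dvd_card hpK
  have hn0 : n ≠ 0 := by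
    rintro rfl
    rw [pow_zero, hcT] at hn
    exact hT1 ((Subgroup.card_eq_one).1 hn)
  have hdT : p ^ n ∣ 7920 := by
    rw [← hn, ← hc]
    exact Subgroup.card_subgroup_dvd_card T
  have hmod : ¬ 11 ∣ Nat.card T - 1 := by
    rw [hn]
    rcases hp23 with rfl | rfl
    · have hn5 : n < 5 := by
        by_contra h
        have : 2 ^ 5 ∣ 7920 := (pow_dvd_pow 2 (not_lt.1 h)).trans hdT
        norm_num at this
      interval_cases n <;> omega
    · have hn3 : n < 3 := by
        by_contra h
        have : 3 ^ 3 ∣ 7920 := (pow_dvd_pow 3 (not_lt.1 h)).trans hdT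
        norm_num at this
      interval_cases n <;> omega
  have hyN : y ∈ Subgroup.normalizer (T : Set G) := y₀.2
  obtain ⟨t, htT, ht1, hyt⟩ := G168.exists_fixed_of_mem_normalizer (H := T) hyN (p := 11) (n := 1)
    (by rw [pow_one, ← hy11]; exact pow_orderOf_eq_one y) hmod
  -- the Sylow subgroup generated by `y`
  have hpg : IsPGroup 11 (Subgroup.zpowers y) := by
    apply IsPGroup.of_card (n := 1)
    rw [Nat.card_zpowers, hy11, pow_one]
  obtain ⟨Q, hQ⟩ := hpg.exists_le_sylow
  have hQe : Subgroup.zpowers y = (Q : Subgroup G) :=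
    Subgroup.eq_of_le_of_card_ge hQ (by rw [card11 hc Q, Nat.card_zpowers, hy11])
  have htN : t ∈ Subgroup.normalizer ((Q : Subgroup G) : Set G) := by
    rw [Subgroup.mem_normalizer_iff]
    intro g
    rw [← hQe]
    have hcomm : Commute t y := by
      show t * y = y * t
      have : y * t * y⁻¹ * y = t * y := by rw [hyt]
      rw [← this]
      group
    simp only [Subgroup.mem_zpowers_iff]
    constructor
    · rintro ⟨k, rfl⟩
      exact ⟨k, by rw [(hcomm.zpow_right k).eq]; group⟩
    · rintro ⟨k, hk⟩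
      refine ⟨k, ?_⟩
      have h3 : t * y ^ k * t⁻¹ = y ^ k := by rw [(hcomm.zpow_right k).eq]; group
      rw [← h3] at hk
      have := mul_left_cancel (mul_right_cancel hk)
      exact this
  have hd1 : orderOf t ∣ 55 := by
    have h3 := orderOf_dvd_natCard (⟨t, htN⟩ : Subgroup.normalizer ((Q : Subgroup G) : Set G))
    rwa [Subgroup.orderOf_mk, card_normalizer11 hc h11 Q] at h3
  have hd2 : orderOf t ∣ p ^ n := by
    have h3 := orderOf_dvd_natCard (⟨t, htT⟩ : T)
    rwa [Subgroup.orderOf_mk, hn] at h3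
  have hcop : Nat.Coprime (p ^ n) 55 := by
    apply Nat.Coprime.pow_left
    rcases hp23 with rfl | rfl <;> norm_num
  have h1 : orderOf t = 1 := Nat.eq_one_of_dvd_coprimes hcop hd2 hd1
  exact ht1 (orderOf_eq_one_iff.1 h1)

/-- **Simplicity.** -/
theorem isSimpleGroup : IsSimpleGroup G := by
  have : Nontrivial G := by
    rw [← Finite.one_lt_card_iff_nontrivial, hc]
    norm_num
  refine ⟨fun K hK => ?_⟩
  by_contra hcon
  push Not at hcon
  obtain ⟨hK1, hK2⟩ := hcon
  by_cases h11K : 11 ∣ Nat.card K
  · obtain ⟨P, hP⟩ := exists_sylow_le hc h11K (card11 hc)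
    have h1 : Subgroup.normalizer ((P : Subgroup G) : Set G) ⊔ K = ⊤ :=
      Sylow.normalizer_sup_eq_top' P hP
    have h2 := index_dvd_of_sup h1
    rw [card_normalizer11 hc h11 P] at h2
    have h3 := K.card_mul_index
    rw [hc] at h3
    have hK5 : K.index = 5 := by
      have hmem : K.index ∈ Nat.divisors 55 := Nat.mem_divisors.2 ⟨h2, by norm_num⟩
      have hdiv : Nat.divisors 55 = {1, 5, 11, 55} := by decide +kernel
      rw [hdiv] at hmem
      simp only [Finset.mem_insert, Finset.mem_singleton] at hmem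
      rcases hmem with h | h | h | h
      · exact absurd (Subgroup.index_eq_one.1 h) hK2
      · exact h
      · rw [h] at h3
        have : Nat.card K = 720 := by omega
        rw [this] at h11K
        norm_num at h11K
      · rw [h] at h3
        have : Nat.card K = 144 := by omega
        rw [this] at h11K
        norm_num at h11K
    have hcK : Nat.card K = 1584 := by
      rw [hK5] at h3
      omega
    -- the normalizer in `K`
    set N := Subgroup.normalizer ((P : Subgroup G) : Set G) with hN
    have hrel : K.relIndex N = 5 := by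
      have h4 : K.relIndex (N ⊔ K) = K.relIndex N := Subgroup.relIndex_sup_right N K
      rw [h1, Subgroup.relIndex_top_right, hK5] at h4
      exact h4.symm
    have hcNK : Nat.card ↥(K ⊓ N) = 11 := by
      have h4 : (K ⊓ N).relIndex N = 5 := by rw [Subgroup.inf_relIndex_right, hrel]
      have h5' := Subgroup.relIndex_mul_relIndex ⊥ (K ⊓ N) N bot_le inf_le_right
      rw [Subgroup.relIndex_bot_left, Subgroup.relIndex_bot_left, h4, card_normalizer11 hc h11 P] at h5'
      omega
    have hPeq : (P : Subgroup G) = K ⊓ N :=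
      Subgroup.eq_of_le_of_card_ge (le_inf hP Subgroup.le_normalizer) (by rw [hcNK, card11 hc P])
    let P₀ : Sylow 11 K := P.subtype hP
    have hP₀c : Nat.card (P₀ : Subgroup K) = 11 := by
      · have : Nat.card ((P₀ : Subgroup K).map K.subtype) = Nat.card (P₀ : Subgroup K) :=
          SylowBasic.card_map_subtype _
        rw [← this, Sylow.coe_subtype, Subgroup.subgroupOf_map_subtype, inf_of_le_left hP]
        exact card11 hc P
    have hmem₀ : ∀ x : K, x ∈ (P₀ : Subgroup K) ↔ (x : G) ∈ (P : Subgroup G) := fun x => by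
      rw [Sylow.coe_subtype, Subgroup.mem_subgroupOf]
    have hP₀ : Subgroup.normalizer ((P₀ : Subgroup K) : Set K) ≤
        Subgroup.centralizer ((P₀ : Subgroup K) : Set K) := by
      intro x hx
      have hxN : (x : G) ∈ N := by
        rw [hN, Subgroup.mem_normalizer_iff]
        intro g
        constructor
        · intro hg
          have := (Subgroup.mem_normalizer_iff.1 hx ⟨g, hP hg⟩).1 ((hmem₀ _).2 hg)
          exact (hmem₀ _).1 this
        · intro hg
          have hgK : g ∈ K := by
            have h6 := hP hg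
            have h7 : x⁻¹.1 * ((x : G) * g * (x : G)⁻¹) * x⁻¹.1⁻¹ ∈ K :=
              K.mul_mem (K.mul_mem x⁻¹.2 h6) (K.inv_mem x⁻¹.2)
            have h8 : x⁻¹.1 * ((x : G) * g * (x : G)⁻¹) * x⁻¹.1⁻¹ = g := by
              simp only [InvMemClass.coe_inv]
              group
            rwa [h8] at h7
          have := (Subgroup.mem_normalizer_iff.1 hx ⟨g, hgK⟩).2 ((hmem₀ _).2 hg)
          exact (hmem₀ _).1 this
      have hxP : (x : G) ∈ (P : Subgroup G) := by
        rw [hPeq]
        exact ⟨x.2, hxN⟩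
      have hxP₀ : x ∈ (P₀ : Subgroup K) := (hmem₀ x).2 hxP
      have : Fact (Nat.card (P₀ : Subgroup K)).Prime := ⟨by rw [hP₀c]; norm_num⟩
      rw [Subgroup.mem_centralizer_iff]
      intro h hh
      have hcyc : IsCyclic (P₀ : Subgroup K) := isCyclic_of_prime_card rfl
      have := (IsCyclic.commGroup (α := (P₀ : Subgroup K))).mul_comm ⟨h, hh⟩ ⟨x, hxP₀⟩
      exact congrArg Subtype.val this
    let τ := MonoidHom.transferSylow P₀ hP₀
    have hcompl := MonoidHom.ker_transferSylow_isComplement' P₀ hP₀
    have hcL : Nat.card τ.ker = 144 := by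
      have h4 : Nat.card τ.ker * Nat.card (P₀ : Subgroup K) = Nat.card K := hcompl.card_mul_card
      rw [hP₀c, hcK] at h4
      omega
    set L : Subgroup G := τ.ker.map K.subtype with hL
    have hcL' : Nat.card L = 144 := (SylowBasic.card_map_subtype _).trans hcL
    have hLn : L.Normal := by
      refine ⟨fun x hx g => ?_⟩
      obtain ⟨x₀, hx₀, rfl⟩ := hx
      let w : K := ⟨g * (x₀ : G) * g⁻¹, hK.conj_mem _ x₀.2 g⟩
      have hw144 : w ^ 144 = 1 := by
        have h4 : x₀ ^ 144 = 1 := by
          have h5' := pow_card_eq_one' (G := τ.ker) (x := ⟨x₀, hx₀⟩)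
          rw [hcL] at h5'
          exact congrArg Subtype.val h5'
        apply Subtype.ext
        have h6 : ((x₀ : G)) ^ 144 = 1 := by
          have := congrArg Subtype.val h4
          simpa using this
        show (g * (x₀ : G) * g⁻¹) ^ 144 = 1
        rw [conj_pow, h6]
        group
      have hτ : τ w = 1 := by
        have h4 : (τ w) ^ 144 = 1 := by rw [← map_pow, hw144, map_one]
        have h5' : (τ w) ^ 11 = 1 := by
          have := pow_card_eq_one' (G := (P₀ : Subgroup K)) (x := τ w)
          rwa [hP₀c] at this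
        have h6 : orderOf (τ w) ∣ Nat.gcd 144 11 :=
          Nat.dvd_gcd (orderOf_dvd_of_pow_eq_one h4) (orderOf_dvd_of_pow_eq_one h5')
        have h7 : orderOf (τ w) = 1 := by
          have h8 : Nat.gcd 144 11 = 1 := by norm_num
          rw [h8] at h6
          exact Nat.dvd_one.1 h6
        exact orderOf_eq_one_iff.1 h7
      exact ⟨w, hτ, rfl⟩
    have hLb : L ≠ ⊥ := by
      intro h
      rw [h, Subgroup.card_bot] at hcL'
      omega
    exact no_small hc h11 h5 hLb (by rw [hcL']; norm_num)
  · exact no_small hc h11 h5 hK1 h11K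

end Cfsg.Agent.Lib.M11Rec.Simple
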